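import Mathlib.Analysis.Real.Cardinality
import Mathlib.Topology.Algebra.Order.Archimedean
import Mathlib.LinearAlgebra.FiniteDimensional.Basic
import Mathlib.LinearAlgebra.Dimension.Free
import Mathlib.Topology.Instances.Real.Lemmas

/-!
# Real points of rational linear and quadratic conditions
-/

set_option linter.style.haveILetI false

noncomputable section

namespace Groth.Agent.SurfCone

/-- A common denominator. -/
theorem exists_common_den {ι : Type*} [Fintype ι] (q : ι → ℚ) :
    ∃ (D : ℕ) (a : ι → ℤ), 0 < D ∧ ∀ i, (a i : ℚ) = D * q i := by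
  classical
  refine ⟨∏ i, (q i).den, fun i => (q i).num * ((∏ j ∈ Finset.univ.erase i, (q j).den : ℕ) : ℤ),
    Finset.prod_pos fun i _ => (q i).den_pos, fun i => ?_⟩
  have h : ((∏ j, (q j).den : ℕ) : ℚ) = (q i).den * ((∏ j ∈ Finset.univ.erase i, (q j).den : ℕ) : ℚ) := by
    rw [← Nat.cast_mul, ← Finset.mul_prod_erase Finset.univ (fun j => (q j).den) (Finset.mem_univ i)]
  rw [h, mul_comm ((q i).den : ℚ), mul_assoc, Rat.den_mul_eq_num]
  push_cast
  ring

/-- Real solutions of integral linear equations are combinations of integral solutions. -/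
theorem exists_int_kernel {n : ℕ} {β : Type*} (A : Fin n → β → ℤ) (v : Fin n → ℝ)
    (h : ∀ b, ∑ i, v i * (A i b : ℝ) = 0) :
    ∃ (m : ℕ) (w : Fin m → Fin n → ℤ) (c : Fin m → ℝ),
      (∀ j b, ∑ i, w j i * A i b = 0) ∧ ∀ i, v i = ∑ j, c j * (w j i : ℝ) := by
  let S := Submodule.span ℚ (Set.range v)
  haveI : FiniteDimensional ℚ S := FiniteDimensional.span_of_finite ℚ (Set.finite_range v)
  let e := Module.finBasis ℚ S
  let q : Fin n → Fin (Module.finrank ℚ S) → ℚ := fun i j => e.repr ⟨v i, Submodule.subset_span ⟨i, rfl⟩⟩ j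
  have hv : ∀ i, v i = ∑ j, (q i j : ℝ) * (e j : ℝ) := fun i => by
    have h1 := congrArg Subtype.val (e.sum_repr ⟨v i, Submodule.subset_span ⟨i, rfl⟩⟩)
    simp only [AddSubmonoidClass.coe_finsetSum, SetLike.val_smul, Rat.smul_def] at h1
    exact h1.symm
  choose D a hD ha using fun j => exists_common_den fun i => q i j
  have hq : ∀ b j, ∑ i, (A i b : ℚ) * q i j = 0 := fun b j => by
    have h0 : ∑ i, (A i b : ℚ) • (⟨v i, Submodule.subset_span ⟨i, rfl⟩⟩ : S) = 0 := Subtype.ext (by
      simp only [AddSubmonoidClass.coe_finsetSum, SetLike.val_smul, Rat.smul_def, Rat.cast_intCast, ZeroMemClass.coe_zero]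
      rw [← h b]
      exact Finset.sum_congr rfl fun i _ => mul_comm _ _)
    have h1 := congrArg (fun x => e.repr x j) h0
    simp only [map_sum, map_smul, Finsupp.coe_finsetSum, Finset.sum_apply, Finsupp.smul_apply, smul_eq_mul,
      map_zero, Finsupp.coe_zero, Pi.zero_apply] at h1
    exact h1
  refine ⟨_, fun j i => a j i, fun j => (e j : ℝ) / (D j : ℝ), fun j b => ?_, fun i => ?_⟩
  · have h1 : ((∑ i, a j i * A i b : ℤ) : ℚ) = 0 := by
      push_cast
      simp only [ha]
      rw [← mul_zero (D j : ℚ), ← hq b j, Finset.mul_sum]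
      exact Finset.sum_congr rfl fun i _ => by ring
    exact_mod_cast h1
  · rw [hv i]
    refine Finset.sum_congr rfl fun j _ => ?_
    have h1 : ((a j i : ℤ) : ℝ) = (D j : ℝ) * (q i j : ℝ) := by exact_mod_cast congrArg (Rat.cast : ℚ → ℝ) (ha j i)
    have h2 : (D j : ℝ) ≠ 0 := Nat.cast_ne_zero.2 (hD j).ne'
    rw [h1, div_mul_eq_mul_div, mul_comm (D j : ℝ), ← mul_assoc, mul_div_cancel_right₀ _ h2, mul_comm]

/-- Quadratic forms non-positive on integral vectors are non-positive on real vectors. -/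
theorem nonpos_real {n : ℕ} (G : Fin n → Fin n → ℝ)
    (h : ∀ a : Fin n → ℤ, ∑ i, ∑ j, (a i : ℝ) * a j * G i j ≤ 0) (c : Fin n → ℝ) :
    ∑ i, ∑ j, c i * c j * G i j ≤ 0 := by
  have hcl : IsClosed {x : Fin n → ℝ | ∑ i, ∑ j, x i * x j * G i j ≤ 0} :=
    isClosed_le (by fun_prop) continuous_const
  refine (DenseRange.piMap fun _ => Rat.denseRange_cast).induction_on c hcl fun q => ?_
  obtain ⟨D, a, hD, ha⟩ := exists_common_den q
  have h1 := h a
  have e1 : ∀ i, (a i : ℝ) = (D : ℝ) * (q i : ℝ) := fun i => by exact_mod_cast congrArg (Rat.cast : ℚ → ℝ) (ha i)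
  simp only [e1] at h1
  have h2 : (D : ℝ) * D * ∑ i, ∑ j, (q i : ℝ) * q j * G i j ≤ 0 := by
    refine le_of_eq_of_le ?_ h1
    rw [Finset.mul_sum]
    refine Finset.sum_congr rfl fun i _ => ?_
    rw [Finset.mul_sum]
    exact Finset.sum_congr rfl fun j _ => by ring
  simp only [Pi.map_apply]
  exact nonpos_of_mul_nonpos_right h2 (by positivity)

end Groth.Agent.SurfCone
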