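import Groth.Prelude.Def_NumR
import Groth.Agent.SurfRR.Config
import Groth.Agent.SurfRR.Trivial
import Groth.Agent.SurfCone.Lin

/-!
# Real divisor classes on surfaces and the real Hodge index theorem
-/

set_option autoImplicit false
set_option linter.style.haveILetI false
set_option linter.unusedSectionVars false
set_option backward.isDefEq.respectTransparency false
set_option backward.isDefEq.respectTransparency.types false
set_option maxHeartbeats 1000000

universe u

open CategoryTheory CategoryTheory.Limits AlgebraicGeometry TopologicalSpace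
open scoped Groth.Agent.H23.PicMul

noncomputable section

namespace Groth.Agent.SurfCone

open SurfRR (pair)
open NumR (clR)

section Group

variable {k : Type u} [Field k] {X : Scheme.{u}} [X.Over (Spec (CommRingCat.of k))] [PicGrp.Law X]

theorem clR_congr {L M : X.Modules} (hL : PicF.IsInvertible L) (hM : PicF.IsInvertible M) (e : Nonempty (L ≅ M)) :
    clR k X L hL = clR k X M hM := by
  rw [NumR.clR_def, NumR.clR_def, ← NumR.toN1_ofMul_cls, ← NumR.toN1_ofMul_cls, (PicGrp.cls_eq_cls_iff hL hM).2 e]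

theorem clR_tensor {L M : X.Modules} (hL : PicF.IsInvertible L) (hM : PicF.IsInvertible M)
    (h : PicF.IsInvertible (CohB1.tensorMod L M)) :
    clR k X (CohB1.tensorMod L M) h = clR k X L hL + clR k X M hM := by
  have e : PicGrp.cls (CohB1.tensorMod L M) h = PicGrp.cls L hL * PicGrp.cls M hM :=
    Subtype.ext (PicGrp.cls_mul_cls_val hL hM).symm
  rw [NumR.clR_def, NumR.clR_def, NumR.clR_def, ← NumR.toN1_ofMul_cls, ← NumR.toN1_ofMul_cls,
    ← NumR.toN1_ofMul_cls, e, ofMul_mul, map_add, map_add]

theorem clR_one (h : PicF.IsInvertible (Coh.structureModule X)) : clR k X (Coh.structureModule X) h = 0 := by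
  rw [NumR.clR_def, ← NumR.toN1_ofMul_cls, show PicGrp.cls (Coh.structureModule X) h = 1 from
    PicGrp.cls_structureModule_eq_one, ofMul_one, map_zero, map_zero]

theorem clR_pow {L : X.Modules} (hL : PicF.IsInvertible L) : ∀ (n : ℕ) (h : PicF.IsInvertible (CohB1.tensorPow L n)),
    clR k X (CohB1.tensorPow L n) h = (n : ℝ) • clR k X L hL
  | 0, h => by rw [Nat.cast_zero, zero_smul]; exact clR_one h
  | n + 1, h => by
    have hn := InvX.isInvertible_tensorPow hL n
    rw [Nat.cast_succ, add_smul, one_smul, ← clR_pow hL n hn]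
    exact clR_tensor hn hL h

theorem clR_inverse {L M : X.Modules} (hL : PicF.IsInvertible L) (hM : PicF.IsInvertible M)
    (u : CohB1.tensorMod L M ≅ Coh.structureModule X) : clR k X L hL = - clR k X M hM := by
  have h := clR_tensor (k := k) hL hM (InvX.isInvertible_tensorMod hL hM)
  rw [clR_congr (InvX.isInvertible_tensorMod hL hM) InvX.isInvertible_structureModule ⟨u⟩, clR_one] at h
  exact eq_neg_of_add_eq_zero_left h.symm

/-- Integral combinations of classes are classes. -/
theorem exists_clR_sum {n : ℕ} (L : Fin n → X.Modules) (hL : ∀ i, PicF.IsInvertible (L i)) (a : Fin n → ℤ) :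
    ∃ (P : X.Modules) (hP : PicF.IsInvertible P), clR k X P hP = ∑ i, (a i : ℝ) • clR k X (L i) (hL i) := by
  obtain ⟨P, hP, e⟩ := NumR.exists_eq_cl (∑ i, a i • NumR.cl k X (L i) (hL i))
  refine ⟨P, hP, ?_⟩
  rw [NumR.clR_def, ← e, map_sum]
  exact Finset.sum_congr rfl fun i _ => by rw [map_zsmul, Int.cast_smul_eq_zsmul]; rfl

/-- Every real class is a combination of classes. -/
theorem exists_repr (x : NumR.N1R k X) : ∃ (n : ℕ) (c : Fin n → ℝ) (L : Fin n → X.Modules)
    (hL : ∀ i, PicF.IsInvertible (L i)), x = ∑ i, c i • clR k X (L i) (hL i) := by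
  have hx : x ∈ Submodule.span ℝ {x : NumR.N1R k X | ∃ (L : X.Modules) (hL : PicF.IsInvertible L), x = clR k X L hL} := by
    rw [NumR.span_clR]; exact Submodule.mem_top
  obtain ⟨n, c, g, hg⟩ := Submodule.mem_span_set'.1 hx
  choose L hL hgL using fun i => (g i).2
  exact ⟨n, c, L, hL, hg.symm.trans (Finset.sum_congr rfl fun i _ => by rw [hgL i])⟩

end Group

variable {k : Type u} [Field k] {X : Scheme.{u}} [X.Over (Spec (CommRingCat.of k))]
  [IsProper (X ↘ Spec (CommRingCat.of k))] [IsIntegral X] [Smooth (X ↘ Spec (CommRingCat.of k))] [PicGrp.Law X]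
  (hdim : topologicalKrullDim X = ((2 : ℕ) : WithBot ℕ∞))
  {B : NumR.N1R k X →ₗ[ℝ] NumR.N1R k X →ₗ[ℝ] ℝ} (hB : NumR.IsIntForm₂ k X B)

include hdim hB in
theorem B_clR {L M : X.Modules} (hL : PicF.IsInvertible L) (hM : PicF.IsInvertible M) :
    B (clR k X L hL) (clR k X M hM) = (pair k L M : ℝ) := by
  rw [hB L M hL hM, SurfRR.intNum_two k hdim.le hL hM]

include hdim hB in
theorem B_comm (x y : NumR.N1R k X) : B x y = B y x := by
  have h : B = B.flip := by
    refine LinearMap.ext_on NumR.span_clR ?_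
    rintro _ ⟨L, hL, rfl⟩
    refine LinearMap.ext_on NumR.span_clR ?_
    rintro _ ⟨M, hM, rfl⟩
    rw [LinearMap.flip_apply, B_clR hdim hB hL hM, B_clR hdim hB hM hL, SurfRR.pair_comm k hL hM]
  exact DFunLike.congr_fun (DFunLike.congr_fun h x) y

include hdim hB in
theorem B_sum_clR {n : ℕ} {L : Fin n → X.Modules} (hL : ∀ i, PicF.IsInvertible (L i)) (c : Fin n → ℝ)
    {M : X.Modules} (hM : PicF.IsInvertible M) :
    B (∑ i, c i • clR k X (L i) (hL i)) (clR k X M hM) = ∑ i, c i * (pair k (L i) M : ℝ) := by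
  simp only [map_sum, LinearMap.sum_apply, map_smul, LinearMap.smul_apply, smul_eq_mul, B_clR hdim hB]

include hdim in
theorem isNumEquivZero_of_pair {L : X.Modules} (hL : PicF.IsInvertible L)
    (h : ∀ M : X.Modules, PicF.IsInvertible M → pair k L M = 0) : Pic13.IsNumEquivZero k X L := by
  haveI := CurveCohLib.isNoetherian_of_proper (k := k) (X := X)
  intro Z i hi hZI hZ
  haveI := hi
  haveI := hZI
  have hnum : IntSym.NumEq k L (Coh.structureModule X) :=
    IntSym.CurveSurface.numEq_of_intNum k hdim (SurfRR.regular_of_smooth k) hL InvX.isInvertible_structureModule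
      fun M hM => by
        rw [SurfRR.intNum_two k hdim.le hL hM, SurfRR.intNum_two k hdim.le InvX.isInvertible_structureModule hM,
          h M hM, SurfRR.pair_structure k hdim hM]
  rw [IntSym.curveDeg_eq k i hZ hL, hnum Z i hZ, IntSym.sym_structure_head k (List.forall_mem_nil _)]

include hdim hB in
/-- The intersection form is non-degenerate. -/
theorem eq_zero_of_orth {x : NumR.N1R k X}
    (h : ∀ (M : X.Modules) (hM : PicF.IsInvertible M), B x (clR k X M hM) = 0) : x = 0 := by
  obtain ⟨n, c, L, hL, rfl⟩ := exists_repr x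
  obtain ⟨m, w, d, hw, hc⟩ := exists_int_kernel
    (fun i (M : {M : X.Modules // PicF.IsInvertible M}) => pair k (L i) M.1) c fun M => by
      rw [← B_sum_clR hdim hB hL c M.2]; exact h M.1 M.2
  have hz : ∀ j, ∑ i, (w j i : ℝ) • clR k X (L i) (hL i) = 0 := fun j => by
    obtain ⟨P, hP, e⟩ := exists_clR_sum (k := k) L hL (w j)
    rw [← e]
    have hPM : ∀ M : X.Modules, PicF.IsInvertible M → pair k P M = 0 := fun M hM => by
      have h1 : (pair k P M : ℝ) = 0 := by
        rw [← B_clR hdim hB hP hM, e, B_sum_clR hdim hB hL _ hM]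
        exact_mod_cast hw j ⟨M, hM⟩
      exact_mod_cast h1
    rw [NumR.clR_def, NumR.cl_eq_zero hP (isNumEquivZero_of_pair hdim hP hPM), map_zero]
  simp only [hc, Finset.sum_smul]
  rw [Finset.sum_comm]
  refine Finset.sum_eq_zero fun j _ => ?_
  simp only [mul_smul, ← Finset.smul_sum]
  rw [hz j, smul_zero]

variable {H : X.Modules} (hH : CohB1.IsAmple H)

include hdim hB hH in
theorem B_self_pos : 0 < B (clR k X H hH.1) (clR k X H hH.1) := by
  rw [B_clR hdim hB]; exact_mod_cast SurfRR.pair_self_pos k hH hdim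

include hdim hB hH in
/-- The real Hodge index theorem. -/
theorem index_semidef {y : NumR.N1R k X} (hy : B y (clR k X H hH.1) = 0) : B y y ≤ 0 := by
  obtain ⟨n, c, L, hL, rfl⟩ := exists_repr y
  rw [B_sum_clR hdim hB hL c hH.1] at hy
  have hpos := B_self_pos hdim hB hH
  rw [B_clR hdim hB] at hpos
  choose Q hQ hQe using fun i => exists_clR_sum (k := k) ![L i, H]
    (fun j => by fin_cases j; exacts [hL i, hH.1]) ![pair k H H, - pair k (L i) H]
  have hQe' : ∀ i, clR k X (Q i) (hQ i) =
      (pair k H H : ℝ) • clR k X (L i) (hL i) + ((- pair k (L i) H : ℤ) : ℝ) • clR k X H hH.1 := fun i => by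
    rw [hQe i, Fin.sum_univ_two]; rfl
  have hsum : (pair k H H : ℝ) • ∑ i, c i • clR k X (L i) (hL i) = ∑ i, c i • clR k X (Q i) (hQ i) := by
    simp only [hQe', smul_add, smul_smul, Finset.sum_add_distrib, ← Finset.sum_smul, Finset.smul_sum]
    rw [show ∑ i, c i * ((- pair k (L i) H : ℤ) : ℝ) = 0 by
      push_cast
      simp only [mul_neg, Finset.sum_neg_distrib, hy, neg_zero], zero_smul, add_zero]
    exact Finset.sum_congr rfl fun i _ => by rw [mul_comm]
  have hQH : ∀ i, pair k (Q i) H = 0 := fun i => by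
    have h1 : (pair k (Q i) H : ℝ) = 0 := by
      rw [← B_clR hdim hB (hQ i) hH.1, hQe', map_add, map_smul, map_smul, LinearMap.add_apply,
        LinearMap.smul_apply, LinearMap.smul_apply, B_clR hdim hB, B_clR hdim hB, smul_eq_mul, smul_eq_mul]
      push_cast
      ring
    exact_mod_cast h1
  have hneg : ∑ i, ∑ j, c i * c j * (pair k (Q i) (Q j) : ℝ) ≤ 0 := nonpos_real _ (fun a => by
    obtain ⟨P, hP, e⟩ := exists_clR_sum (k := k) Q hQ a
    have hPH : (pair k P H : ℝ) = 0 := by
      rw [← B_clR hdim hB hP hH.1, e, B_sum_clR hdim hB hQ _ hH.1]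
      exact Finset.sum_eq_zero fun i _ => by rw [hQH i, Int.cast_zero, mul_zero]
    have h1 := SurfRR.index_ample k hdim (SurfRR.exists_proj_smooth k hdim) hH hP (by exact_mod_cast hPH)
    have h2 : (pair k P P : ℝ) = ∑ i, ∑ j, (a i : ℝ) * a j * (pair k (Q i) (Q j) : ℝ) := by
      rw [← B_clR hdim hB hP hP, e]
      simp only [map_sum, LinearMap.sum_apply, map_smul, LinearMap.smul_apply, smul_eq_mul, B_clR hdim hB, Finset.mul_sum]
      rw [Finset.sum_comm]
      exact Finset.sum_congr rfl fun i _ => Finset.sum_congr rfl fun j _ => by ring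
    rw [← h2]; exact_mod_cast h1) c
  have h3 : (pair k H H : ℝ) * ((pair k H H : ℝ) * B (∑ i, c i • clR k X (L i) (hL i)) (∑ i, c i • clR k X (L i) (hL i))) =
      ∑ i, ∑ j, c i * c j * (pair k (Q i) (Q j) : ℝ) := by
    rw [← smul_eq_mul (pair k H H : ℝ) (B _ _), ← map_smul, ← smul_eq_mul, ← LinearMap.smul_apply, ← map_smul, hsum]
    simp only [map_sum, LinearMap.sum_apply, map_smul, LinearMap.smul_apply, smul_eq_mul, B_clR hdim hB, Finset.mul_sum]
    rw [Finset.sum_comm]
    exact Finset.sum_congr rfl fun i _ => Finset.sum_congr rfl fun j _ => by ring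
  rw [← h3] at hneg
  exact nonpos_of_mul_nonpos_right (nonpos_of_mul_nonpos_right hneg hpos) hpos

include hdim hB hH in
/-- Definiteness orthogonal to an ample class. -/
theorem index_def {y : NumR.N1R k X} (hy : B y (clR k X H hH.1) = 0) (hyy : 0 ≤ B y y) : y = 0 := by
  have h0 : B y y = 0 := le_antisymm (index_semidef hdim hB hH hy) hyy
  refine eq_zero_of_orth hdim hB fun M hM => ?_
  set h := clR k X H hH.1
  set m := clR k X M hM
  have hhh : 0 < B h h := B_self_pos hdim hB hH
  set z := m - (B m h / B h h) • h with hz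
  have hzh : B z h = 0 := by
    rw [hz, map_sub, map_smul, LinearMap.sub_apply, LinearMap.smul_apply, smul_eq_mul, div_mul_cancel₀ _ hhh.ne',
      sub_self]
  have hyz : B y z = B y m := by rw [hz, map_sub, map_smul, hy, smul_zero, sub_zero]
  have key : ∀ t : ℝ, 2 * t * B y z + B z z ≤ 0 := fun t => by
    have h1 := index_semidef hdim hB hH (y := t • y + z) (by
      rw [map_add, map_smul, LinearMap.add_apply, LinearMap.smul_apply, hy, hzh, smul_zero, add_zero])
    simp only [map_add, map_smul, LinearMap.add_apply, LinearMap.smul_apply, smul_eq_mul, h0, B_comm hdim hB z y] at h1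
    linarith
  rw [← hyz]
  by_contra hne
  have h1 := key ((1 + |B z z|) / (2 * B y z))
  have h2 : 2 * ((1 + |B z z|) / (2 * B y z)) * B y z = 1 + |B z z| := by field_simp
  have h3 := neg_abs_le (B z z)
  linarith

include hdim hB hH in
theorem comb_orth {x y : NumR.N1R k X} :
    B (B x (clR k X H hH.1) • y - B y (clR k X H hH.1) • x) (clR k X H hH.1) = 0 := by
  rw [map_sub, map_smul, map_smul, LinearMap.sub_apply, LinearMap.smul_apply, LinearMap.smul_apply, smul_eq_mul,
    smul_eq_mul, mul_comm, sub_self]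

include hdim hB hH in
theorem comb_self_nonpos (x y : NumR.N1R k X) :
    B x (clR k X H hH.1) ^ 2 * B y y - 2 * B x (clR k X H hH.1) * B y (clR k X H hH.1) * B x y +
      B y (clR k X H hH.1) ^ 2 * B x x ≤ 0 := by
  have h1 := index_semidef hdim hB hH (comb_orth hdim hB hH (x := x) (y := y))
  simp only [map_sub, map_smul, LinearMap.sub_apply, LinearMap.smul_apply, smul_eq_mul, B_comm hdim hB y x] at h1
  linarith

include hdim hB hH in
theorem pair_pos_of_pos {x y : NumR.N1R k X} (hx : x ∈ NumR.posCone k X B H hH.1) (hy : 0 ≤ B y y)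
    (hyh : 0 < B y (clR k X H hH.1)) : 0 < B x y := by
  have h := comb_self_nonpos hdim hB hH x y
  by_contra hle
  push Not at hle
  have h1 : B x (clR k X H hH.1) * B y (clR k X H hH.1) * B x y ≤ 0 :=
    mul_nonpos_of_nonneg_of_nonpos (mul_nonneg hx.2.le hyh.le) hle
  have h2 := mul_pos (pow_pos hyh 2) hx.1
  have h3 := mul_nonneg (sq_nonneg (B x (clR k X H hH.1))) hy
  linarith

include hdim hB hH in
theorem eq_zero_of_pos_orth {x y : NumR.N1R k X} (hx : x ∈ NumR.posCone k X B H hH.1) (hy : 0 ≤ B y y)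
    (hxy : B x y = 0) : y = 0 := by
  have h := comb_self_nonpos hdim hB hH x y
  rw [hxy, mul_zero, sub_zero] at h
  have h2 := mul_nonneg (sq_nonneg (B x (clR k X H hH.1))) hy
  have h3 : B y (clR k X H hH.1) ^ 2 * B x x ≤ 0 := by linarith
  exact index_def hdim hB hH (pow_eq_zero_iff (n := 2) (by norm_num) |>.1
    (le_antisymm (nonpos_of_mul_nonpos_left h3 hx.1) (sq_nonneg _))) hy

include hdim hB hH in
theorem posCone_add {x y : NumR.N1R k X} (hx : x ∈ NumR.posCone k X B H hH.1)
    (hy : y ∈ NumR.posCone k X B H hH.1) : x + y ∈ NumR.posCone k X B H hH.1 := by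
  have h1 := pair_pos_of_pos hdim hB hH hx hy.1.le hy.2
  refine ⟨?_, ?_⟩
  · simp only [map_add, LinearMap.add_apply, B_comm hdim hB y x]
    linarith [hx.1, hy.1]
  · simp only [map_add, LinearMap.add_apply]
    linarith [hx.2, hy.2]

include hdim hB hH in
theorem posCone_smul {x : NumR.N1R k X} {t : ℝ} (ht : 0 < t) (hx : x ∈ NumR.posCone k X B H hH.1) :
    t • x ∈ NumR.posCone k X B H hH.1 := by
  refine ⟨?_, ?_⟩
  · simp only [map_smul, LinearMap.smul_apply, smul_eq_mul]
    exact mul_pos ht (mul_pos ht hx.1)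
  · simp only [map_smul, LinearMap.smul_apply, smul_eq_mul]
    exact mul_pos ht hx.2

end Groth.Agent.SurfCone
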