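import Groth.Agent.SurfCone.Classes
import Groth.Agent.AffCompl.Section

/-!
# The ample, nef and positive cones of a surface
-/

set_option autoImplicit false
set_option linter.style.haveILetI false
set_option linter.unusedSectionVars false
set_option backward.isDefEq.respectTransparency false
set_option backward.isDefEq.respectTransparency.types false
set_option maxHeartbeats 1000000

universe u

open CategoryTheory CategoryTheory.Limits AlgebraicGeometry TopologicalSpace
open scoped Groth.Agent.H23.PicMul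

noncomputable section

namespace Groth.Agent.SurfCone

open SurfRR (pair)
open NumR (clR)

variable {k : Type u} [Field k] {X : Scheme.{u}} [X.Over (Spec (CommRingCat.of k))]
  [IsProper (X ↘ Spec (CommRingCat.of k))] [IsIntegral X] [Smooth (X ↘ Spec (CommRingCat.of k))] [PicGrp.Law X]
  (hdim : topologicalKrullDim X = ((2 : ℕ) : WithBot ℕ∞))
  {B : NumR.N1R k X →ₗ[ℝ] NumR.N1R k X →ₗ[ℝ] ℝ} (hB : NumR.IsIntForm₂ k X B)

theorem clR_mem_ampleCone {A : X.Modules} (hA : CohB1.IsAmple A) :
    clR k X A hA.1 ∈ (NumR.ampleCone k X : Set (NumR.N1R k X)) :=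
  ConvexCone.subset_hull ⟨A, hA.1, hA, rfl⟩

theorem ampleCone_induction (C : ConvexCone ℝ (NumR.N1R k X))
    (h : ∀ (A : X.Modules) (hA : CohB1.IsAmple A), clR k X A hA.1 ∈ C) {x : NumR.N1R k X}
    (hx : x ∈ (NumR.ampleCone k X : Set (NumR.N1R k X))) : x ∈ C :=
  ConvexCone.hull_min (C := C) (by rintro _ ⟨A, hA, hamp, rfl⟩; exact h A hamp) hx

include hdim hB in
theorem B_curveCl (x : NumR.N1R k X) {I : X.IdealSheafData} (hI : PicF.IsInvertible (ClSub.idealMod I)) :
    B x (NumR.curveCl k X I hI) = - B x (clR k X (ClSub.idealMod I) hI) :=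
  map_neg (B x) _

include hdim hB in
/-- Ample classes are positive on curves. -/
theorem curve_pos {x : NumR.N1R k X} (hx : x ∈ (NumR.ampleCone k X : Set (NumR.N1R k X)))
    {I : X.IdealSheafData} (hI1 : IsIntegral I.subscheme) (hI2 : topologicalKrullDim (I.support : Set X) = 1)
    (hI : PicF.IsInvertible (ClSub.idealMod I)) : 0 < B x (NumR.curveCl k X I hI) := by
  refine ampleCone_induction
    { carrier := {y | 0 < B y (NumR.curveCl k X I hI)}
      smul_mem' := fun t ht y hy => by
        show 0 < B (t • y) _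
        rw [map_smul, LinearMap.smul_apply, smul_eq_mul]; exact mul_pos ht hy
      add_mem' := fun y hy z hz => by
        show 0 < B (y + z) _
        rw [map_add, LinearMap.add_apply]; exact add_pos hy hz } (fun A hA => ?_) hx
  show 0 < B (clR k X A hA.1) _
  have hIc := SurfRR.isEffCartier_curve k hdim hI1 hI2 (SurfRR.regular_of_smooth k)
  rw [B_curveCl hdim hB, B_clR hdim hB, SurfRR.pair_comm k hA.1 hI, SurfRR.pair_idealMod k hdim hIc hA.1]
  push_cast
  rw [neg_neg]
  exact_mod_cast SurfRR.sym_pos_divisor k hdim hIc (SurfRR.curve_ne_top hdim hI1) hA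

variable {H : X.Modules} (hH : CohB1.IsAmple H)

include hdim hB hH in
theorem clR_ample_mem_pos {A : X.Modules} (hA : CohB1.IsAmple A) :
    clR k X A hA.1 ∈ NumR.posCone k X B H hH.1 := by
  have hAA := SurfRR.pair_self_pos k hA hdim
  have hHH := SurfRR.pair_self_pos k hH hdim
  refine ⟨B_self_pos hdim hB hA, ?_⟩
  rw [B_clR hdim hB]
  obtain ⟨N, hN⟩ := SurfRR.eventually_sections k hdim (SurfRR.exists_proj_smooth k hdim) hH hH.1 hHH hHH 0
  have h := SurfRR.pair_nonneg_of_section k hdim (InvX.isInvertible_tensorPow hH.1 (N + 1)) hA (hN _ (Nat.le_succ N))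
  rw [SurfRR.pair_pow k hdim.le hH.1 hA.1] at h
  have h1 : pair k A H ≠ 0 := fun h0 =>
    not_lt.2 (SurfRR.index_ample k hdim (SurfRR.exists_proj_smooth k hdim) hH hA.1 h0) hAA
  have h2 := nonneg_of_mul_nonneg_right h (by omega)
  rw [SurfRR.pair_comm k hH.1 hA.1] at h2
  exact_mod_cast lt_of_le_of_ne h2 (Ne.symm h1)

include hdim hB hH in
theorem ampleCone_subset_pos :
    (NumR.ampleCone k X : Set (NumR.N1R k X)) ⊆ NumR.posCone k X B H hH.1 := fun _ hx =>
  ampleCone_induction
    { carrier := NumR.posCone k X B H hH.1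
      smul_mem' := fun _ ht _ hy => posCone_smul hdim hB hH ht hy
      add_mem' := fun _ hy _ hz => posCone_add hdim hB hH hy hz } (fun _ hA => clR_ample_mem_pos hdim hB hH hA) hx

/-- Rational classes. -/
def IsRat (x : NumR.N1R k X) : Prop :=
  ∃ (m : ℕ) (P : X.Modules) (hP : PicF.IsInvertible P), 0 < m ∧ (m : ℝ) • x = clR k X P hP

include hdim in
theorem clR_pow_tensor_mem {A P : X.Modules} (hA : CohB1.IsAmple A) (hP : PicF.IsInvertible P) :
    ∃ n₀ : ℕ, ∀ n, n₀ ≤ n →
      (n : ℝ) • clR k X A hA.1 + clR k X P hP ∈ (NumR.ampleCone k X : Set (NumR.N1R k X)) := by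
  haveI := CurveCohLib.isNoetherian_of_proper (k := k) (X := X)
  haveI : X.IsSeparated := AmpleVan.isSeparated_of_proper (A := k)
  obtain ⟨n₀, -, hn⟩ := AmpleX.eventually_ample_tensor hA hP
  refine ⟨n₀, fun n hn' => ?_⟩
  have h := clR_mem_ampleCone (k := k) (hn n hn').1
  rwa [clR_tensor (InvX.isInvertible_tensorPow hA.1 n) hP, clR_pow hA.1] at h

include hdim in
/-- Small perturbations in one direction. -/
theorem exists_delta {A P : X.Modules} (hA : CohB1.IsAmple A) (hP : PicF.IsInvertible P) :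
    ∃ δ : ℝ, 0 < δ ∧ ∀ t : ℝ, |t| < δ →
      clR k X A hA.1 + t • clR k X P hP ∈ (NumR.ampleCone k X : Set (NumR.N1R k X)) := by
  obtain ⟨P', hP', ⟨u⟩⟩ := H23.PicInv.exists_inverse hP
  obtain ⟨n₁, h₁⟩ := clR_pow_tensor_mem (k := k) hdim hA hP
  obtain ⟨n₂, h₂⟩ := clR_pow_tensor_mem (k := k) hdim hA hP'
  have hP'e : clR k X P hP = - clR k X P' hP' := clR_inverse hP hP' u
  set a := clR k X A hA.1
  set g := clR k X P hP
  set n := n₁ + n₂ + 1
  have ha : a ∈ NumR.ampleCone k X := clR_mem_ampleCone hA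
  have key : ∀ (v : NumR.N1R k X), (n : ℝ) • a + v ∈ NumR.ampleCone k X → ∀ t : ℝ, 0 < t → t * n < 1 →
      a + t • v ∈ NumR.ampleCone k X := fun v hv t ht htn => by
    have h := add_mem (s := NumR.ampleCone k X)
      ((NumR.ampleCone k X).smul_mem ht hv) ((NumR.ampleCone k X).smul_mem (sub_pos.2 htn) ha)
    rwa [show t • ((n : ℝ) • a + v) + (1 - t * n) • a = a + t • v by module] at h
  refine ⟨1 / n, by positivity, fun t ht => ?_⟩
  have hn0 : (0 : ℝ) < n := by positivity
  rw [lt_div_iff₀ hn0] at ht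
  rcases lt_trichotomy t 0 with hneg | rfl | hpos
  · rw [abs_of_neg hneg] at ht
    have h := key (- g) (by rw [hP'e, neg_neg]; exact h₂ n (by omega)) (- t) (neg_pos.2 hneg) ht
    rwa [smul_neg, neg_smul, neg_neg] at h
  · rw [zero_smul, add_zero]; exact ha
  · rw [abs_of_pos hpos] at ht
    exact key g (h₁ n (by omega)) t hpos ht

section Fin

instance : IsTopologicalAddGroup (NumR.N1R k X) := IsModuleTopology.topologicalAddGroup ℝ (NumR.N1R k X)

variable [Module.Finite ℝ (NumR.N1R k X)]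

theorem exists_gen : ∃ (n : ℕ) (L : Fin n → X.Modules) (hL : ∀ i, PicF.IsInvertible (L i)),
    Function.Surjective (Fintype.linearCombination ℝ (fun i => clR k X (L i) (hL i))) := by
  obtain ⟨f, hf, hspan, -⟩ := Submodule.exists_fun_fin_finrank_span_eq ℝ
    {x : NumR.N1R k X | ∃ (L : X.Modules) (hL : PicF.IsInvertible L), x = clR k X L hL}
  choose L hL hfL using hf
  refine ⟨_, L, hL, fun x => ?_⟩
  rw [← funext hfL]
  have hx : x ∈ Submodule.span ℝ (Set.range f) := by rw [hspan, NumR.span_clR]; exact Submodule.mem_top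
  rwa [← Fintype.range_linearCombination ℝ f] at hx

theorem continuous_quad (B : NumR.N1R k X →ₗ[ℝ] NumR.N1R k X →ₗ[ℝ] ℝ) :
    Continuous fun x : NumR.N1R k X => B x x := by
  let b := Module.finBasis ℝ (NumR.N1R k X)
  have hc : ∀ i, Continuous fun x : NumR.N1R k X => b.repr x i := fun i =>
    IsModuleTopology.continuous_of_linearMap (b.coord i)
  have he : (fun x : NumR.N1R k X => B x x) = fun x => ∑ i, ∑ j, b.repr x i * b.repr x j * B (b i) (b j) := by
    funext x
    conv_lhs => rw [← b.sum_repr x]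
    simp only [map_sum, LinearMap.sum_apply, map_smul, LinearMap.smul_apply, smul_eq_mul, Finset.mul_sum]
    rw [Finset.sum_comm]
    exact Finset.sum_congr rfl fun i _ => Finset.sum_congr rfl fun j _ => by ring
  rw [he]
  exact continuous_finsetSum _ fun i _ => continuous_finsetSum _ fun j _ =>
    ((hc i).mul (hc j)).mul continuous_const

theorem continuous_left (B : NumR.N1R k X →ₗ[ℝ] NumR.N1R k X →ₗ[ℝ] ℝ) (y : NumR.N1R k X) :
    Continuous fun x : NumR.N1R k X => B x y :=
  IsModuleTopology.continuous_of_linearMap (B.flip y)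

theorem isOpen_posCone (B : NumR.N1R k X →ₗ[ℝ] NumR.N1R k X →ₗ[ℝ] ℝ) :
    IsOpen (NumR.posCone k X B H hH.1) :=
  (isOpen_lt continuous_const (continuous_quad B)).inter (isOpen_lt continuous_const (continuous_left B _))

include hdim in
theorem mem_interior_ampleCone {A : X.Modules} (hA : CohB1.IsAmple A) :
    clR k X A hA.1 ∈ interior (NumR.ampleCone k X : Set (NumR.N1R k X)) := by
  obtain ⟨n, L, hL, hsurj⟩ := exists_gen (k := k) (X := X)
  set g := fun i => clR k X (L i) (hL i)
  set a := clR k X A hA.1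
  choose δ hδ0 hδ using fun i => exists_delta (k := k) hdim hA (hL i)
  set φ := Fintype.linearCombination ℝ g
  have hbox : ∀ s : Finset (Fin n), ∃ ε : ℝ, 0 < ε ∧ ∀ c : Fin n → ℝ, (∀ i ∈ s, |c i| < ε) →
      a + ∑ i ∈ s, c i • g i ∈ NumR.ampleCone k X := by
    intro s
    induction s using Finset.induction_on with
    | empty => exact ⟨1, one_pos, fun c _ => by simpa using clR_mem_ampleCone hA⟩
    | insert j s hj ih =>
      obtain ⟨ε, hε, hc⟩ := ih
      refine ⟨min ε (δ j) / 2, by have := lt_min hε (hδ0 j); linarith, fun c hcs => ?_⟩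
      have h1 := hc (fun i => 2 * c i) fun i hi => by
        have := hcs i (Finset.mem_insert_of_mem hi)
        rw [abs_mul, abs_two]
        linarith [min_le_left ε (δ j)]
      have h2 := hδ j (2 * c j) (by
        have := hcs j (Finset.mem_insert_self j s)
        rw [abs_mul, abs_two]
        linarith [min_le_right ε (δ j)])
      have h3 := (NumR.ampleCone k X).smul_mem (show (0 : ℝ) < 1 / 2 by norm_num) (add_mem h1 h2)
      rw [Finset.sum_insert hj]
      convert h3 using 1
      simp only [mul_smul, ← Finset.smul_sum]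
      module
  obtain ⟨ε, hε, hc⟩ := hbox Finset.univ
  have hopen : IsOpenMap φ := (IsModuleTopology.isOpenQuotientMap_of_surjective hsurj).isOpenMap
  refine mem_interior.2 ⟨(a + ·) '' (φ '' Set.pi Set.univ fun _ => Set.Ioo (-ε) ε), ?_,
    (Homeomorph.addLeft a).isOpenMap _ (hopen _ (isOpen_set_pi Set.finite_univ fun _ _ => isOpen_Ioo)), ?_⟩
  · rintro _ ⟨_, ⟨c, hc', rfl⟩, rfl⟩
    show a + φ c ∈ NumR.ampleCone k X
    rw [Fintype.linearCombination_apply]
    exact hc c fun i _ => abs_lt.2 (hc' i (Set.mem_univ i))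
  · exact ⟨0, ⟨0, fun _ _ => ⟨neg_lt_zero.2 hε, hε⟩, map_zero φ⟩, add_zero a⟩

include hdim in
theorem isOpen_ampleCone : IsOpen (NumR.ampleCone k X : Set (NumR.N1R k X)) := by
  set C := NumR.ampleCone k X
  have hsub : (C : Set (NumR.N1R k X)) ⊆ interior (C : Set (NumR.N1R k X)) := fun x hx =>
    ampleCone_induction
      { carrier := interior (C : Set (NumR.N1R k X))
        smul_mem' := fun t ht y hy => by
          refine interior_maximal ?_ (isOpenMap_smul₀ ht.ne' _ isOpen_interior) ⟨y, hy, rfl⟩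
          rintro _ ⟨z, hz, rfl⟩
          exact C.smul_mem ht (interior_subset hz)
        add_mem' := fun y hy z hz => by
          refine interior_maximal ?_ ((Homeomorph.addRight z).isOpenMap _ isOpen_interior) ⟨y, hy, rfl⟩
          rintro _ ⟨w, hw, rfl⟩
          exact add_mem (interior_subset hw) (interior_subset hz) } (fun _ hA => mem_interior_ampleCone hdim hA) hx
  exact subset_interior_iff_isOpen.1 hsub

theorem dense_rat : Dense {x : NumR.N1R k X | IsRat x} := by
  obtain ⟨n, L, hL, hsurj⟩ := exists_gen (k := k) (X := X)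
  set φ := Fintype.linearCombination ℝ (fun i => clR k X (L i) (hL i))
  have hd : DenseRange (φ ∘ fun (q : Fin n → ℚ) i => (q i : ℝ)) :=
    hsurj.denseRange.comp (DenseRange.piMap fun _ => Rat.denseRange_cast)
      (IsModuleTopology.continuous_of_linearMap φ)
  refine hd.mono ?_
  rintro _ ⟨q, rfl⟩
  obtain ⟨D, a, hD, ha⟩ := exists_common_den q
  obtain ⟨P, hP, e⟩ := exists_clR_sum (k := k) L hL a
  refine ⟨D, P, hP, hD, ?_⟩
  show (D : ℝ) • φ _ = _
  rw [e, Fintype.linearCombination_apply, Finset.smul_sum]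
  refine Finset.sum_congr rfl fun i _ => ?_
  rw [smul_smul]
  congr 1
  show (D : ℝ) * (q i : ℝ) = (a i : ℝ)
  exact_mod_cast congrArg (Rat.cast : ℚ → ℝ) (ha i).symm

include hdim hB in
/-- Rational nef classes are classes of nef modules. -/
theorem exists_nef {q : NumR.N1R k X} (hq : IsRat q) (hnef : q ∈ NumR.nefCone₂ k X B) :
    ∃ (m : ℕ) (P : X.Modules) (hP : PicF.IsInvertible P), 0 < m ∧ (m : ℝ) • q = clR k X P hP ∧
      BigMono.NefC k P := by
  obtain ⟨m, P, hP, hm, e⟩ := hq
  refine ⟨m, P, hP, hm, e, SurfRR.nef_of_curves k hP fun C hC hC1 => ?_⟩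
  have hI := (S8914.result C).2 (SurfRR.isEffCartier_curve k hdim hC hC1 (SurfRR.regular_of_smooth k))
  rw [SurfRR.eulerDiff_eq_neg_pair k hdim (SurfRR.regular_of_smooth k) hC hC1 hP]
  have h := mul_nonneg (Nat.cast_nonneg (α := ℝ) m) (hnef C hC hC1 hI)
  rw [← smul_eq_mul, ← LinearMap.smul_apply, ← map_smul, e, B_curveCl hdim hB, B_clR hdim hB,
    SurfRR.pair_comm k hP hI] at h
  exact_mod_cast h

include hdim hB in
theorem add_mem_nef {x y : NumR.N1R k X} (hx : x ∈ NumR.nefCone₂ k X B) (hy : y ∈ NumR.nefCone₂ k X B) :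
    x + y ∈ NumR.nefCone₂ k X B := fun I h1 h2 hI => by
  rw [map_add, LinearMap.add_apply]
  exact add_nonneg (hx I h1 h2 hI) (hy I h1 h2 hI)

include hdim hB in
theorem ample_mem_nef {x : NumR.N1R k X} (hx : x ∈ (NumR.ampleCone k X : Set (NumR.N1R k X))) :
    x ∈ NumR.nefCone₂ k X B := fun _ h1 h2 hI => (curve_pos hdim hB hx h1 h2 hI).le

include hdim hB hH in
/-- Nef classes have non-negative square. -/
theorem nef_self_nonneg {x : NumR.N1R k X} (hx : x ∈ NumR.nefCone₂ k X B) : 0 ≤ B x x := by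
  have hclosed : IsClosed {y : NumR.N1R k X | 0 ≤ B y y} := isClosed_le continuous_const (continuous_quad B)
  let U := (x + ·) '' (NumR.ampleCone k X : Set (NumR.N1R k X))
  have hUo : IsOpen U := (Homeomorph.addLeft x).isOpenMap _ (isOpen_ampleCone hdim)
  have hU : U ⊆ {y : NumR.N1R k X | 0 ≤ B y y} := by
    refine ((dense_rat (k := k) (X := X)).open_subset_closure_inter hUo).trans (hclosed.closure_subset_iff.2 ?_)
    rintro q ⟨⟨a, ha, rfl⟩, hqr⟩
    obtain ⟨m, P, hP, hm, e, hnefP⟩ := exists_nef hdim hB hqr (add_mem_nef hdim hB hx (ample_mem_nef hdim hB ha))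
    have h : (0 : ℝ) ≤ B (clR k X P hP) (clR k X P hP) := by
      rw [B_clR hdim hB]; exact_mod_cast SurfRR.pair_self_nonneg_of_nef k hdim hP hnefP hH
    rw [← e] at h
    simp only [map_smul, LinearMap.smul_apply, smul_eq_mul] at h
    exact nonneg_of_mul_nonneg_right (nonneg_of_mul_nonneg_right h (Nat.cast_pos.2 hm)) (Nat.cast_pos.2 hm)
  have hlim : Filter.Tendsto (fun t : ℝ => x + t • clR k X H hH.1) (nhdsWithin 0 (Set.Ioi 0)) (nhds x) := by
    have hc : Continuous fun t : ℝ => x + t • clR k X H hH.1 := by fun_prop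
    have := (hc.tendsto 0).mono_left (nhdsWithin_le_nhds (s := Set.Ioi 0))
    rwa [zero_smul, add_zero] at this
  refine hclosed.mem_of_tendsto hlim (eventually_nhdsWithin_of_forall fun t ht => hU ?_)
  exact ⟨_, (NumR.ampleCone k X).smul_mem ht (clR_mem_ampleCone hH), rfl⟩

include hdim hB in
theorem rat_nef_add_ample {q a : NumR.N1R k X} (hq : IsRat q) (hnef : q ∈ NumR.nefCone₂ k X B)
    (ha : a ∈ (NumR.ampleCone k X : Set (NumR.N1R k X))) :
    q + a ∈ (NumR.ampleCone k X : Set (NumR.N1R k X)) := by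
  haveI := CurveCohLib.isNoetherian_of_proper (k := k) (X := X)
  obtain ⟨m, P, hP, hm, e, hnefP⟩ := exists_nef hdim hB hq hnef
  obtain ⟨A, hA⟩ := SurfRR.exists_ample k hdim (SurfRR.regular_of_smooth (X := X) k)
  set h := clR k X A hA.1
  have hlim : Filter.Tendsto (fun N : ℕ => a - (1 / (N : ℝ)) • h) Filter.atTop (nhds a) := by
    have h1 := ((tendsto_const_div_atTop_nhds_zero_nat (1 : ℝ)).smul_const h)
    rw [zero_smul] at h1
    simpa using (tendsto_const_nhds (x := a)).sub h1
  obtain ⟨N, hN0, hN⟩ := ((Filter.eventually_gt_atTop 0).and (hlim.eventually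
    ((isOpen_ampleCone hdim).mem_nhds ha))).exists
  have hamp := BigMono.isAmple_nef_tensor k hP hnefP hA (p := m) (q := N) hm hN0
  have h1 := clR_mem_ampleCone (k := k) hamp
  rw [clR_tensor (InvX.isInvertible_tensorPow hP N) (InvX.isInvertible_tensorPow hA.1 m), clR_pow hP, clR_pow hA.1,
    ← e] at h1
  have h2 := add_mem (s := NumR.ampleCone k X)
    ((NumR.ampleCone k X).smul_mem (show (0 : ℝ) < 1 / (N * m) by positivity) h1) hN
  have hN' : (N : ℝ) ≠ 0 := Nat.cast_ne_zero.2 hN0.ne'
  have hm' : (m : ℝ) ≠ 0 := Nat.cast_ne_zero.2 hm.ne'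
  convert h2 using 1
  rw [smul_add, smul_smul, smul_smul, smul_smul, show 1 / ((N : ℝ) * m) * N * m = 1 by field_simp,
    show 1 / ((N : ℝ) * m) * m = 1 / (N : ℝ) by field_simp, one_smul]
  show q + a ∈ NumR.ampleCone k X ↔ q + (1 / (N : ℝ)) • h + (a - (1 / (N : ℝ)) • h) ∈ NumR.ampleCone k X
  rw [show q + (1 / (N : ℝ)) • h + (a - (1 / (N : ℝ)) • h) = q + a by abel]

include hdim hB in
theorem nef_add_ample {x y : NumR.N1R k X} (hx : x ∈ NumR.nefCone₂ k X B)
    (hy : y ∈ (NumR.ampleCone k X : Set (NumR.N1R k X))) :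
    x + y ∈ (NumR.ampleCone k X : Set (NumR.N1R k X)) := by
  set C := (NumR.ampleCone k X : Set (NumR.N1R k X))
  have hC := isOpen_ampleCone (k := k) (X := X) hdim
  let U := ((fun a => x + a) '' C) ∩ ((fun z => x + y - z) ⁻¹' C)
  have hU : IsOpen U := ((Homeomorph.addLeft x).isOpenMap _ hC).inter (hC.preimage (by fun_prop))
  have hyh : (1 / 2 : ℝ) • y ∈ C := (NumR.ampleCone k X).smul_mem (by norm_num) hy
  have hne : U.Nonempty := by
    refine ⟨x + (1 / 2 : ℝ) • y, ⟨_, hyh, rfl⟩, ?_⟩
    show x + y - (x + (1 / 2 : ℝ) • y) ∈ C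
    rwa [show x + y - (x + (1 / 2 : ℝ) • y) = (1 / 2 : ℝ) • y by module]
  obtain ⟨q, hqr, ⟨a, ha, rfl⟩, hq⟩ := (dense_rat (k := k) (X := X)).exists_mem_open hU hne
  have h := rat_nef_add_ample hdim hB hqr (add_mem_nef hdim hB hx (ample_mem_nef hdim hB ha)) hq
  rwa [add_sub_cancel] at h

include hdim hB hH in
theorem nef_pos_mem_posCone {x : NumR.N1R k X} (hx : x ∈ NumR.nefCone₂ k X B) (hxx : 0 < B x x) :
    x ∈ NumR.posCone k X B H hH.1 := by
  have hcl : IsClosed {z : NumR.N1R k X | 0 ≤ B z (clR k X H hH.1)} :=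
    isClosed_le continuous_const (continuous_left B _)
  have hlim : Filter.Tendsto (fun t : ℝ => x + t • clR k X H hH.1) (nhdsWithin 0 (Set.Ioi 0)) (nhds x) := by
    have hc : Continuous fun t : ℝ => x + t • clR k X H hH.1 := by fun_prop
    have := (hc.tendsto 0).mono_left (nhdsWithin_le_nhds (s := Set.Ioi 0))
    rwa [zero_smul, add_zero] at this
  have h : 0 ≤ B x (clR k X H hH.1) := hcl.mem_of_tendsto hlim (eventually_nhdsWithin_of_forall fun t ht =>
    (ampleCone_subset_pos hdim hB hH (nef_add_ample hdim hB hx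
      ((NumR.ampleCone k X).smul_mem ht (clR_mem_ampleCone hH)))).2.le)
  refine ⟨hxx, lt_of_le_of_ne h fun h0 => not_lt.2 (index_semidef hdim hB hH h0.symm) hxx⟩

include k hdim in
/-- A divisor contains finitely many curves. -/
theorem finite_curves {D : X.IdealSheafData} (hD : BlowUp.IsEffCartierIdeal D) :
    {I : X.IdealSheafData | IsIntegral I.subscheme ∧ topologicalKrullDim (I.support : Set X) = 1 ∧
      (I.support : Set X) ⊆ (D.support : Set X)}.Finite := by
  haveI := CurveCohLib.isNoetherian_of_proper (k := k) (X := X)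
  obtain ⟨S, hSf, hSc, hSi, hS⟩ := NoetherianSpace.exists_finite_set_isClosed_irreducible D.support.isClosed
  refine Set.Finite.of_finite_image (f := fun I : X.IdealSheafData => (I.support : Set X)) (hSf.subset ?_)
    fun I hI J hJ h => SurfRR.curve_eq_of_subset hI.1 hJ.1 h
  rintro _ ⟨I, ⟨hI, hI1, hsub⟩, rfl⟩
  haveI := hI
  have hirr : IsIrreducible (I.support : Set X) := by
    rw [← Scheme.IdealSheafData.range_subschemeι I, ← Set.image_univ]
    exact (IrreducibleSpace.isIrreducible_univ _).image _ I.subschemeι.continuous.continuousOn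
  lift S to Finset (Set X) using hSf
  obtain ⟨T, hT, hIT⟩ := isIrreducible_iff_sUnion_isClosed.1 hirr S hSc (hsub.trans hS.le)
  suffices h : T ⊆ (I.support : Set X) by
    show (I.support : Set X) ∈ _
    rwa [show (I.support : Set X) = T from hIT.antisymm h]
  by_contra hne
  haveI : IrreducibleSpace T := Subtype.irreducibleSpace (hSi T hT)
  have hTd : topologicalKrullDim T ≤ ((1 : ℕ) : WithBot ℕ∞) := by
    refine (H23.TopDim.dim_le_dim_of_subset (T := (D.support : Set X)) ?_).trans ?_
    · rw [hS]; exact Set.subset_sUnion_of_mem hT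
    · rw [← SurfRR.support_quotMod]; exact SurfRR.dim_quotMod_le k hdim hD
  have h := H23.TopDim.dim_lt_of_ssubset (X := T) (ne_top_of_le_ne_top
    (WithBot.coe_inj.not.2 (ENat.natCast_ne_top 1)) hTd) (I.support.isClosed.preimage continuous_subtype_val)
    (fun h => hne fun y hy => (h ▸ Set.mem_univ (⟨y, hy⟩ : T) : (⟨y, hy⟩ : T) ∈ Subtype.val ⁻¹' (I.support : Set X)))
  rw [(Topology.IsEmbedding.subtypeVal.homeomorphImage _).isHomeomorph.topologicalKrullDim_eq,
    Set.image_preimage_eq_of_subset (by rw [Subtype.range_val]; exact hIT), hI1, ← Nat.cast_one] at h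
  exact lt_irrefl _ (h.trans_le hTd)

include hdim hB hH in
/-- The criterion of Nakai and Moishezon for real classes. -/
theorem mem_ampleCone_of_pos {x : NumR.N1R k X} (hxx : 0 < B x x)
    (hx : ∀ (I : X.IdealSheafData), IsIntegral I.subscheme → topologicalKrullDim (I.support : Set X) = 1 →
      ∀ hI : PicF.IsInvertible (ClSub.idealMod I), 0 < B x (NumR.curveCl k X I hI)) :
    x ∈ (NumR.ampleCone k X : Set (NumR.N1R k X)) := by
  haveI := CurveCohLib.isNoetherian_of_proper (k := k) (X := X)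
  have hreg := SurfRR.regular_of_smooth (X := X) k
  set C := (NumR.ampleCone k X : Set (NumR.N1R k X))
  have hxnef : x ∈ NumR.nefCone₂ k X B := fun I h1 h2 hI => (hx I h1 h2 hI).le
  have hxpos := nef_pos_mem_posCone hdim hB hH hxnef hxx
  let V := NumR.posCone k X B H hH.1 ∩ ((fun z => x - z) ⁻¹' C)
  have hV : IsOpen V := (isOpen_posCone hH B).inter ((isOpen_ampleCone hdim).preimage (by fun_prop))
  have hne : V.Nonempty := by
    have hlim : Filter.Tendsto (fun t : ℝ => x - t • clR k X H hH.1) (nhdsWithin 0 (Set.Ioi 0)) (nhds x) := by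
      have hc : Continuous fun t : ℝ => x - t • clR k X H hH.1 := by fun_prop
      have := (hc.tendsto 0).mono_left (nhdsWithin_le_nhds (s := Set.Ioi 0))
      rwa [zero_smul, sub_zero] at this
    obtain ⟨t, ht, ht'⟩ := ((hlim.eventually ((isOpen_posCone hH B).mem_nhds hxpos)).and self_mem_nhdsWithin).exists
    refine ⟨_, ht, ?_⟩
    show x - (x - t • clR k X H hH.1) ∈ C
    rw [sub_sub_cancel]
    exact (NumR.ampleCone k X).smul_mem ht' (clR_mem_ampleCone hH)
  obtain ⟨q, ⟨m, P, hP, hm, e⟩, hqpos, hr⟩ := (dense_rat (k := k) (X := X)).exists_mem_open hV hne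
  set r := x - q with hrdef
  have hPP : 0 < pair k P P ∧ 0 < pair k P H := by
    have h := posCone_smul hdim hB hH (Nat.cast_pos (α := ℝ).2 hm) hqpos
    rw [e] at h
    obtain ⟨h1, h2⟩ := h
    rw [B_clR hdim hB] at h1 h2
    exact ⟨by exact_mod_cast h1, by exact_mod_cast h2⟩
  obtain ⟨N, hN⟩ := SurfRR.eventually_sections k hdim (SurfRR.exists_proj_smooth k hdim) hH hP hPP.2 hPP.1 0
  have hPn := InvX.isInvertible_tensorPow hP (N + 1)
  obtain ⟨τ, hτ⟩ := VolLib.exists_section_of_pos (k := k) (hN _ (Nat.le_succ N))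
  obtain ⟨D, hD, ⟨u⟩, -⟩ := AffCompl.exists_divisor_of_section hPn (InvX.ofSect τ) (fun h => hτ (by
    rw [← InvX.one_ofSect τ]
    exact congrArg InvX.one h))
  have hID := (S8914.result D).2 hD
  have hDcl : (((N + 1 : ℕ) : ℝ) * m) • q = - clR k X (ClSub.idealMod D) hID := by
    rw [mul_smul, e, ← clR_pow hP (N + 1) hPn]
    exact clR_inverse hPn hID u
  have hout : ∀ (I : X.IdealSheafData), IsIntegral I.subscheme → topologicalKrullDim (I.support : Set X) = 1 →
      ∀ hI : PicF.IsInvertible (ClSub.idealMod I), ¬ (I.support : Set X) ⊆ (D.support : Set X) →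
        0 ≤ B q (NumR.curveCl k X I hI) := fun I h1 h2 hI hns => by
    have h := SurfRR.pair_nonneg_curve k hdim hD h1 h2 hreg hns
    have h' : (0 : ℝ) ≤ (((N + 1 : ℕ) : ℝ) * m) * B q (NumR.curveCl k X I hI) := by
      rw [← smul_eq_mul, ← LinearMap.smul_apply, ← map_smul, hDcl, B_curveCl hdim hB, map_neg, LinearMap.neg_apply,
        B_clR hdim hB, neg_neg]
      exact_mod_cast h
    exact nonneg_of_mul_nonneg_right h' (by positivity)
  have hfin : ∀ᶠ δ in nhdsWithin (0 : ℝ) (Set.Ioi 0), δ ≤ 1 ∧ ∀ I ∈ {I : X.IdealSheafData | IsIntegral I.subscheme ∧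
      topologicalKrullDim (I.support : Set X) = 1 ∧ (I.support : Set X) ⊆ (D.support : Set X)},
        ∀ hI : PicF.IsInvertible (ClSub.idealMod I), δ * B r (NumR.curveCl k X I hI) ≤ B x (NumR.curveCl k X I hI) := by
    refine ((eventually_le_nhds one_pos).filter_mono nhdsWithin_le_nhds).and
      ((finite_curves (k := k) hdim hD).eventually_all.2 fun I hI => ?_)
    have hI' := (S8914.result I).2 (SurfRR.isEffCartier_curve k hdim hI.1 hI.2.1 hreg)
    have hc : Continuous fun δ : ℝ => δ * B r (NumR.curveCl k X I hI') := by fun_prop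
    have := hc.tendsto 0
    rw [zero_mul] at this
    exact ((this.eventually (eventually_le_nhds (hx I hI.1 hI.2.1 hI'))).filter_mono nhdsWithin_le_nhds).mono
      fun δ h hI'' => h
  obtain ⟨δ, ⟨hδ1, hδin⟩, hδ0⟩ := (hfin.and self_mem_nhdsWithin).exists
  have hnef : x - δ • r ∈ NumR.nefCone₂ k X B := fun I h1 h2 hI => by
    rw [map_sub, map_smul, LinearMap.sub_apply, LinearMap.smul_apply, smul_eq_mul, sub_nonneg]
    by_cases hs : (I.support : Set X) ⊆ (D.support : Set X)
    · exact hδin I ⟨h1, h2, hs⟩ hI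
    · have hq0 := hout I h1 h2 hI hs
      have hrpos := curve_pos hdim hB hr h1 h2 hI
      have hxr : B x (NumR.curveCl k X I hI) = B q (NumR.curveCl k X I hI) + B r (NumR.curveCl k X I hI) := by
        rw [← LinearMap.add_apply, ← map_add, hrdef, add_sub_cancel]
      have := mul_le_mul_of_nonneg_right hδ1 hrpos.le
      linarith
  have h := nef_add_ample hdim hB hnef ((NumR.ampleCone k X).smul_mem hδ0 hr)
  rwa [sub_add_cancel] at h

end Fin

end Groth.Agent.SurfCone
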